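import Mathlib

/-!
# Orbit sums in tensor powers are polynomials in elementary symmetric tensors
-/

set_option autoImplicit false

universe u v w

open scoped TensorProduct
open PiTensorProduct Finset

namespace Groth.Agent.SymGen5

variable (R : Type u) [CommRing R] (A : Type v) [CommRing A] [Algebra R A] (n : ℕ)

/-- The subalgebra generated by the elementary symmetric tensors of elements. -/
noncomputable abbrev gen : Subalgebra R (⨂[R] _ : Fin n, A) :=
  Algebra.adjoin R {t : ⨂[R] _ : Fin n, A | ∃ (a : A) (j : ℕ),
    t = ∑ I ∈ (Finset.univ : Finset (Fin n)).powersetCard j,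
      PiTensorProduct.tprod R (fun i : Fin n => if i ∈ I then a else (1 : A))}

variable {n} {κ : Type w} [Fintype κ] [DecidableEq κ]

/-- Number of places of a colour. -/
def cnt (g : Fin n → κ) (c : κ) : ℕ := (univ.filter fun p => g p = c).card

/-- Number of places away from the base colour. -/
def supp (o : κ) (g : Fin n → κ) : ℕ := (univ.filter fun p => g p ≠ o).card

theorem cnt_comp_perm (g : Fin n → κ) (σ : Equiv.Perm (Fin n)) (c : κ) : cnt (g ∘ σ) c = cnt g c :=
  Finset.card_bij (fun p _ => σ p) (by simp) (by simp) fun p hp => ⟨σ.symm p, by simpa using hp, by simp⟩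

theorem exists_perm_of_cnt {g g' : Fin n → κ} (h : ∀ c, cnt g' c = cnt g c) :
    ∃ σ : Equiv.Perm (Fin n), g' = g ∘ σ := by
  let e : ∀ c, {p // g' p = c} ≃ {p // g p = c} := fun c =>
    Fintype.equivOfCardEq (by simpa [Fintype.card_subtype, cnt] using h c)
  exact ⟨Equiv.ofFiberEquiv e, funext fun p => (Equiv.ofFiberEquiv_map e p).symm⟩

variable {R A}

theorem sum_orbit_mem (s : ℕ) : ∀ (κ : Type w) [Fintype κ] [DecidableEq κ] (o : κ) (a : κ → A), a o = 1 →
    ∀ F : Finset (Fin n → κ), (∀ g ∈ F, ∀ σ : Equiv.Perm (Fin n), g ∘ σ ∈ F) → (∀ g ∈ F, supp o g ≤ s) →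
      ∑ g ∈ F, tprod R (a ∘ g) ∈ gen R A n := by
  induction s using Nat.strong_induction_on with
  | _ s ih =>
    intro κ _ _ o a ha F
    induction F using Finset.strongInduction with
    | _ F ihF =>
      intro hF hs
      rcases F.eq_empty_or_nonempty with rfl | ⟨g₀, hg₀⟩
      · simp
      classical
      let O := univ.filter fun g : Fin n → κ => ∀ c, cnt g c = cnt g₀ c
      have hOF : O ⊆ F := fun g hg => by
        obtain ⟨σ, rfl⟩ := exists_perm_of_cnt (mem_filter.1 hg).2
        exact hF g₀ hg₀ σ
      have hg₀O : g₀ ∈ O := by simp [O]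
      have hO : ∀ g ∈ O, ∀ σ : Equiv.Perm (Fin n), g ∘ σ ∈ O := fun g hg σ => by
        simp only [O, mem_filter, mem_univ, true_and, cnt_comp_perm] at hg ⊢
        exact hg
      rw [← sum_sdiff hOF]
      refine add_mem (ihF _ (sdiff_ssubset hOF ⟨g₀, hg₀O⟩) (fun g hg σ => ?_)
        (fun g hg => hs g (mem_sdiff.1 hg).1)) ?_
      · obtain ⟨h1, h2⟩ := mem_sdiff.1 hg
        refine mem_sdiff.2 ⟨hF g h1 σ, fun h3 => h2 ?_⟩
        have := hO _ h3 σ.symm
        rwa [Function.comp_assoc, Equiv.self_comp_symm, Function.comp_id] at this
      rcases (univ.filter fun p => g₀ p ≠ o).eq_empty_or_nonempty with h0 | ⟨p₀, hp₀⟩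
      · have hconst : O = {g₀} := by
          ext g
          refine ⟨fun hg => mem_singleton.2 ?_, fun h => (mem_singleton.1 h) ▸ hg₀O⟩
          obtain ⟨σ, rfl⟩ := exists_perm_of_cnt (mem_filter.1 hg).2
          have : ∀ p, g₀ p = o := by simpa [Finset.filter_eq_empty_iff] using h0
          funext p; simp [this]
        have : a ∘ g₀ = fun _ => 1 := by
          funext p
          have : g₀ p = o := by simpa using (Finset.filter_eq_empty_iff.1 h0) (mem_univ p)
          simp [this, ha]
        rw [hconst, sum_singleton, this]
        exact one_mem _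
      replace hp₀ : g₀ p₀ ≠ o := (mem_filter.1 hp₀).2
      let i := g₀ p₀
      let j := cnt g₀ i
      let g₁ : Fin n → κ := fun p => if g₀ p = i then o else g₀ p
      have hj : 0 < j := card_pos.2 ⟨p₀, by simp [i]⟩
      have hsupp : supp o g₁ + j = supp o g₀ := by
        rw [supp, supp, show j = (univ.filter fun p => g₀ p = i).card from rfl, ← card_union_of_disjoint]
        · congr 1
          ext p
          by_cases h : g₀ p = i
          · have : i ≠ o := hp₀
            simp [g₁, h, this]
          · simp [g₁, h]
        · rw [disjoint_filter]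
          intro p _ h1 h2
          simp [g₁, h2] at h1
      let O₁ := univ.filter fun g : Fin n → κ => ∀ c, cnt g c = cnt g₁ c
      have hO₁ : ∀ g ∈ O₁, ∀ σ : Equiv.Perm (Fin n), g ∘ σ ∈ O₁ := fun g hg σ => by
        simp only [O₁, mem_filter, mem_univ, true_and, cnt_comp_perm] at hg ⊢
        exact hg
      have hsupp' : ∀ g ∈ O₁, supp o g = supp o g₁ := fun g hg => by
        obtain ⟨σ, rfl⟩ := exists_perm_of_cnt (mem_filter.1 hg).2
        exact Finset.card_bij (fun p _ => σ p) (by simp) (by simp) fun p hp => ⟨σ.symm p, by simpa using hp, by simp⟩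
      have hs₀ : supp o g₀ ≤ s := hs g₀ hg₀
      have m1 : ∑ g ∈ O₁, tprod R (a ∘ g) ∈ gen R A n :=
        ih (supp o g₁) (by omega) κ o a ha O₁ hO₁ fun g hg => (hsupp' g hg).le
      have m2 : ∑ I ∈ (univ : Finset (Fin n)).powersetCard j,
          tprod R (fun p : Fin n => if p ∈ I then a i else (1 : A)) ∈ gen R A n :=
        Algebra.subset_adjoin ⟨a i, j, rfl⟩
      -- colourings by pairs
      let o' : κ × Bool := (o, false)
      let a' : κ × Bool → A := fun q => (if q.2 then a i else 1) * a q.1
      have ha' : a' o' = 1 := by simp [a', o', ha]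
      let T := univ.filter fun H : Fin n → κ × Bool =>
        (Prod.fst ∘ H) ∈ O₁ ∧ (univ.filter fun p => (H p).2 = true).card = j
      have hmul : (∑ I ∈ (univ : Finset (Fin n)).powersetCard j,
          tprod R (fun p : Fin n => if p ∈ I then a i else (1 : A))) * ∑ g ∈ O₁, tprod R (a ∘ g) =
            ∑ H ∈ T, tprod R (a' ∘ H) := by
        rw [sum_mul_sum, ← sum_product']
        refine Finset.sum_bij' (fun x _ p => (x.2 p, decide (p ∈ x.1)))
          (fun H _ => (univ.filter fun p => (H p).2 = true, Prod.fst ∘ H)) ?_ ?_ ?_ ?_ ?_
        · intro x hx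
          obtain ⟨h1, h2⟩ := mem_product.1 hx
          refine mem_filter.2 ⟨mem_univ _, by exact h2, ?_⟩
          simpa using (mem_powersetCard.1 h1).2
        · intro H hH
          obtain ⟨-, h1, h2⟩ := mem_filter.1 hH
          exact mem_product.2 ⟨mem_powersetCard.2 ⟨subset_univ _, h2⟩, h1⟩
        · intro x hx
          refine Prod.ext ?_ rfl
          ext p; simp
        · intro H hH
          funext p
          simp
        · intro x hx
          rw [tprod_mul_tprod]
          congr 1
          funext p
          simp [a']
      let good : (Fin n → κ × Bool) → Prop := fun H => ∀ p, (H p).2 = true → (H p).1 = o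
      have hT : ∀ H ∈ T, ∀ σ : Equiv.Perm (Fin n), H ∘ σ ∈ T := fun H hH σ => by
        obtain ⟨-, h1, h2⟩ := mem_filter.1 hH
        refine mem_filter.2 ⟨mem_univ _, hO₁ _ h1 σ, ?_⟩
        rw [← h2]
        exact Finset.card_bij (fun p _ => σ p) (by simp) (by simp) fun p hp => ⟨σ.symm p, by simpa using hp, by simp⟩
      have hrest : ∑ H ∈ T.filter (fun H => ¬ good H), tprod R (a' ∘ H) ∈ gen R A n := by
        refine ih (supp o g₁ + j - 1) (by omega) (κ × Bool) o' a' ha' _ (fun H hH σ => ?_) fun H hH => ?_
        · obtain ⟨h1, h2⟩ := mem_filter.1 hH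
          refine mem_filter.2 ⟨hT H h1 σ, fun hg => h2 fun p hp => ?_⟩
          simpa using hg (σ.symm p) (by simpa using hp)
        · obtain ⟨h1, h2⟩ := mem_filter.1 hH
          obtain ⟨-, h3, h4⟩ := mem_filter.1 h1
          simp only [good, not_forall] at h2
          obtain ⟨q, hq1, hq2⟩ := h2
          have hu := card_union_add_card_inter (univ.filter fun p => (H p).1 ≠ o) (univ.filter fun p => (H p).2 = true)
          have hi : 0 < ((univ.filter fun p => (H p).1 ≠ o) ∩ (univ.filter fun p => (H p).2 = true)).card :=
            card_pos.2 ⟨q, by simp [hq1, hq2]⟩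
          have e1 : (univ.filter fun p => (H p).1 ≠ o).card = supp o g₁ := hsupp' _ h3
          have e2 : supp o' H ≤ ((univ.filter fun p => (H p).1 ≠ o) ∪ (univ.filter fun p => (H p).2 = true)).card := by
            refine card_le_card fun p hp => ?_
            simp only [o', mem_filter, mem_univ, true_and, ne_eq, mem_union, Prod.ext_iff] at hp ⊢
            revert hp
            cases (H p).2 <;> simp
          omega
      have hgood : ∑ H ∈ T.filter good, tprod R (a' ∘ H) = ∑ g ∈ O, tprod R (a ∘ g) := by
        let e : κ → κ × Bool := fun c => if c = i then (o, true) else (c, false)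
        let f : κ × Bool → κ := fun q => if q.2 then i else q.1
        have hfe : ∀ c, f (e c) = c := fun c => by by_cases h : c = i <;> simp [e, f, h]
        have he : e ∘ g₀ ∈ T.filter good := by
          refine mem_filter.2 ⟨mem_filter.2 ⟨mem_univ _, ?_, ?_⟩, fun p hp => ?_⟩
          · have : Prod.fst ∘ e ∘ g₀ = g₁ := funext fun p => by by_cases h : g₀ p = i <;> simp [e, g₁, h]
            simp [this, O₁]
          · show _ = cnt g₀ i
            refine congrArg Finset.card (filter_congr fun p _ => ?_)
            by_cases h : g₀ p = i <;> simp [e, h]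
          · by_cases h : g₀ p = i <;> simp [e, h] at hp ⊢
        have huniq : ∀ H ∈ T.filter good, ∀ q, cnt H q = cnt (e ∘ g₀) q := by
          have key : ∀ H ∈ T.filter good, ∀ q : κ × Bool,
              cnt H q = if q.2 then (if q.1 = o then j else 0) else
                (if q.1 = o then cnt g₁ o - j else cnt g₁ q.1) := by
            intro H hH q
            obtain ⟨h0, h2⟩ := mem_filter.1 hH
            obtain ⟨-, h3, h4⟩ := mem_filter.1 h0
            have hc := (mem_filter.1 h3).2
            obtain ⟨c, b⟩ := q
            cases b
            · by_cases hc' : c = o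
              · subst hc'
                have hsub : (univ.filter fun p => (H p).2 = true) ⊆ univ.filter fun p => (H p).1 = c := fun p hp =>
                  mem_filter.2 ⟨mem_univ _, h2 p (mem_filter.1 hp).2⟩
                have h5 := card_sdiff_of_subset hsub
                rw [h4, show (univ.filter fun p => (H p).1 = c).card = cnt g₁ c from hc c] at h5
                simp only [Bool.false_eq_true, if_false, if_true]
                rw [← h5]
                refine congrArg Finset.card ?_
                ext p
                simp only [mem_filter, mem_univ, true_and, mem_sdiff, Prod.ext_iff]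
                revert hsub
                cases (H p).2 <;> simp
              · simp only [Bool.false_eq_true, if_false, if_neg hc']
                rw [← hc c]
                refine congrArg Finset.card (filter_congr fun p _ => ?_)
                simp only [Function.comp_apply, Prod.ext_iff, and_iff_left_iff_imp]
                intro h
                by_contra hb
                exact hc' (h ▸ h2 p (by simpa using hb))
            · by_cases hc' : c = o
              · subst hc'
                simp only [if_true]
                rw [← h4]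
                refine congrArg Finset.card (filter_congr fun p _ => ?_)
                simp only [Prod.ext_iff, and_iff_right_iff_imp]
                exact h2 p
              · simp only [if_true, if_neg hc']
                refine card_eq_zero.2 (filter_eq_empty_iff.2 fun p _ h => hc' ?_)
                rw [Prod.ext_iff] at h
                exact h.1.symm.trans (h2 p h.2)
          intro H hH q
          rw [key H hH q, key _ he q]
        refine Finset.sum_bij' (fun H _ => f ∘ H) (fun g _ => e ∘ g) ?_ ?_ ?_ ?_ ?_
        · intro H hH
          obtain ⟨σ, rfl⟩ := exists_perm_of_cnt (huniq H hH)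
          have : f ∘ (e ∘ g₀) ∘ σ = g₀ ∘ σ := funext fun p => hfe _
          rw [this]
          exact hO _ hg₀O σ
        · intro g hg
          obtain ⟨σ, rfl⟩ := exists_perm_of_cnt (mem_filter.1 hg).2
          obtain ⟨h1, h2⟩ := mem_filter.1 he
          exact mem_filter.2 ⟨hT _ h1 σ, fun p hp => h2 (σ p) hp⟩
        · intro H hH
          obtain ⟨σ, rfl⟩ := exists_perm_of_cnt (huniq H hH)
          funext p
          simp [hfe]
        · intro g hg
          exact funext fun p => hfe _
        · intro H hH
          congr 1
          funext p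
          have := (mem_filter.1 hH).2 p
          simp only [a', f, Function.comp_apply]
          cases hb : (H p).2
          · simp
          · simp [this hb, ha]
      have htot := sum_filter_add_sum_filter_not T good (fun H => tprod R (a' ∘ H))
      rw [hgood, ← hmul] at htot
      have : ∑ g ∈ O, tprod R (a ∘ g) = _ - ∑ H ∈ T.filter (fun H => ¬ good H), tprod R (a' ∘ H) :=
        eq_sub_of_add_eq htot
      rw [this]
      exact sub_mem (mul_mem m2 m1) hrest

end Groth.Agent.SymGen5
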